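/-
Spectral spaces: the criterion via a finer compact topology, constructibly closed subsets, products.
-/
import Groth.Agent.ConsTop.Basic
import Mathlib

set_option autoImplicit false
set_option linter.style.haveILetI false

universe u v

open Topology TopologicalSpace

namespace Groth.Agent.SpecSpLib

/-- A T0 space with a subbasis of sets which are clopen for a compact topology is spectral, and this
topology is finer than the constructible one, hence equal to it. -/
theorem criterion {X : Type u} (T : TopologicalSpace X) [t : TopologicalSpace X] [T0Space X] (S : Set (Set X))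
    (hS : t = generateFrom S) (hT : @CompactSpace X T)
    (ho : ∀ s ∈ S, IsOpen[T] s) (hc : ∀ s ∈ S, IsOpen[T] sᶜ) :
    SpectralSpace X ∧ constructibleTopology X = T := by
  have hb := isTopologicalBasis_of_subbasis hS
  set B := (fun f => ⋂₀ f) '' { f : Set (Set X) | f.Finite ∧ f ⊆ S }
  have hle : T ≤ t := by rw [hS, le_generateFrom_iff_subset_isOpen]; exact fun s hs => ho s hs
  have hBT : ∀ b ∈ B, IsOpen[T] b ∧ IsOpen[T] bᶜ := by
    rintro _ ⟨f, ⟨hf, hfS⟩, rfl⟩
    refine ⟨@Set.Finite.isOpen_sInter X T _ hf fun s hs => ho s (hfS hs), ?_⟩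
    rw [Set.compl_sInter]
    exact @isOpen_sUnion X T _ fun s ⟨r, hr, hrs⟩ => hrs ▸ hc r (hfS hr)
  have hcpt : ∀ s : Set X, IsOpen[T] sᶜ → IsCompact s := fun s hs => by
    have h1 : @IsCompact X T s := @IsClosed.isCompact X T _ hT (@IsClosed.mk X T s hs)
    simpa using @IsCompact.image X X T t s id h1 (continuous_id_iff_le.2 hle)
  haveI : PrespectralSpace X := .of_isTopologicalBasis hb fun b hb' => hcpt b (hBT b hb').2
  haveI : CompactSpace X := ⟨hcpt _ (by simp [@isOpen_empty X T])⟩
  have hck : ∀ U : Set X, IsOpen U → IsCompact U → IsOpen[T] U ∧ IsOpen[T] Uᶜ := by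
    intro U hU hUc
    obtain ⟨C, hCB, rfl⟩ := hb.open_eq_sUnion hU
    obtain ⟨D, hD, hDfin, hDC⟩ := hUc.elim_finite_subcover_image (c := id) (b := C)
      (fun b hb' => hb.isOpen (hCB hb')) (by rw [Set.sUnion_eq_biUnion]; rfl)
    have : ⋃₀ C = ⋃₀ D := (hDC.trans (by rw [Set.sUnion_eq_biUnion]; rfl)).antisymm
      (Set.sUnion_mono hD)
    rw [this]
    refine ⟨@isOpen_sUnion X T _ fun b hb' => (hBT b (hCB (hD hb'))).1, ?_⟩
    rw [Set.compl_sUnion]
    exact @Set.Finite.isOpen_sInter X T _ (hDfin.image _) fun b' ⟨b, hb', e⟩ =>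
      e ▸ (hBT b (hCB (hD hb'))).2
  haveI : QuasiSeparatedSpace X := ⟨fun U V hU hUc hV hVc => hcpt _ (by
    rw [Set.compl_inter]
    exact @IsOpen.union X _ _ T (hck U hU hUc).2 (hck V hV hVc).2)⟩
  haveI : QuasiSober X := ⟨fun {Z} hZ hZc => by
    have hZT : IsOpen[T] Zᶜ := hle _ hZc.isOpen_compl
    have hfip : ∀ u : Finset {b // b ∈ B ∧ (Z ∩ b).Nonempty}, (Z ∩ ⋂ b ∈ u, (b.1 : Set X)).Nonempty := by
      intro u
      classical
      induction u using Finset.induction_on with
      | empty => simpa using hZ.nonempty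
      | insert b u _ ih =>
        rw [Finset.set_biInter_insert]
        exact hZ.2 _ _ (hb.isOpen b.2.1)
          (u.finite_toSet.isOpen_biInter fun c _ => hb.isOpen c.2.1) b.2.2 ih
    have hne : (Z ∩ ⋂ b : {b // b ∈ B ∧ (Z ∩ b).Nonempty}, (b.1 : Set X)).Nonempty := by
      by_contra hemp
      obtain ⟨u, hu⟩ := @IsCompact.elim_finite_subfamily_closed X T _ _
        (@IsClosed.isCompact X T _ hT (@IsClosed.mk X T Z hZT))
        (fun b : {b // b ∈ B ∧ (Z ∩ b).Nonempty} => (b.1 : Set X))
        (fun b => @IsClosed.mk X T _ (hBT b.1 b.2.1).2) (Set.not_nonempty_iff_eq_empty.1 hemp)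
      exact (hfip u).ne_empty hu
    obtain ⟨z, hzZ, hz⟩ := hne
    refine ⟨z, (closure_minimal (Set.singleton_subset_iff.2 hzZ) hZc).antisymm fun y hy => ?_⟩
    rw [hb.mem_closure_iff]
    exact fun b hb' hyb => ⟨z, Set.mem_iInter.1 hz ⟨b, hb', y, hy, hyb⟩, rfl⟩⟩
  have hsp : SpectralSpace X := { }
  refine ⟨hsp, ?_⟩
  have h1 : T ≤ constructibleTopology X := le_generateFrom_iff_subset_isOpen.2 fun s hs => by
    rcases hs with ⟨hso, hsc⟩ | ⟨hsc, hsc'⟩
    · exact (hck s hso hsc).1
    · simpa using (hck sᶜ hsc.isOpen_compl hsc').2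
  refine le_antisymm (fun v hv => ?_) h1
  have h2 : @IsCompact X T vᶜ := @IsClosed.isCompact X T _ hT (@IsClosed.mk X T _ (by rwa [compl_compl]))
  have h3 : @IsCompact X (constructibleTopology X) vᶜ := by
    simpa using @IsCompact.image X X T (constructibleTopology X) vᶜ id h2 (continuous_id_iff_le.2 h1)
  exact (@isClosed_compl_iff X (constructibleTopology X) v).1
    (@IsCompact.isClosed X (constructibleTopology X) ConsTop.t2Space_cons _ h3)

variable {X : Type u} {Y : Type v} [TopologicalSpace X] [TopologicalSpace Y]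

theorem compactSpace_cons [SpectralSpace X] : @CompactSpace X (constructibleTopology X) :=
  @CompactSpace.mk X (constructibleTopology X) (ConsTop.isCompact_cons isOpen_univ isCompact_univ)

theorem isClopen_of_isCompact [PrespectralSpace X] [QuasiSeparatedSpace X] {U : Set X}
    (hU : IsOpen U) (hUc : IsCompact U) :
    IsOpen[constructibleTopology X] U ∧ IsOpen[constructibleTopology X] Uᶜ :=
  ⟨hUc.isOpen_constructibleTopology_of_isOpen hU, ConsTop.isOpen_compl_of_isCompact hU hUc⟩

theorem continuous_cons_of_isSpectralMap {f : X → Y} (hf : IsSpectralMap f) :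
    @Continuous X Y (constructibleTopology X) (constructibleTopology Y) f := by
  refine continuous_generateFrom_iff.2 fun s hs => ?_
  rcases hs with ⟨hso, hsc⟩ | ⟨hsc, hsc'⟩
  · exact (hf.isCompact_preimage_of_isOpen hso hsc).isOpen_constructibleTopology_of_isOpen
      (hso.preimage hf.continuous)
  · refine IsCompact.isOpen_constructibleTopology_of_isClosed ?_ (hsc.preimage hf.continuous)
    rw [← Set.preimage_compl]
    exact hf.isCompact_preimage_of_isOpen hsc.isOpen_compl hsc'

theorem isCompact_of_isClosed_cons [SpectralSpace X] {E : Set X}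
    (hE : IsOpen[constructibleTopology X] Eᶜ) : IsCompact E :=
  ConsTop.isCompact_of_isCompact_cons
    (@IsClosed.isCompact X (constructibleTopology X) _ compactSpace_cons
      (@IsClosed.mk X (constructibleTopology X) E hE))

theorem isSpectralMap_of_continuous_cons [SpectralSpace X] [SpectralSpace Y] {f : X → Y}
    (hf : Continuous f) (h : @Continuous X Y (constructibleTopology X) (constructibleTopology Y) f) :
    IsSpectralMap f :=
  { hf with
    isCompact_preimage_of_isOpen := fun U hU hUc => isCompact_of_isClosed_cons (by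
      rw [← Set.preimage_compl]
      exact @IsOpen.preimage X Y (constructibleTopology X) (constructibleTopology Y) f h Uᶜ
        (isClopen_of_isCompact hU hUc).2) }

/-- A spectral map has constructibly closed image. -/
theorem isClosed_image_cons [SpectralSpace X] [SpectralSpace Y] {f : X → Y}
    (h : @Continuous X Y (constructibleTopology X) (constructibleTopology Y) f) {E : Set X}
    (hE : IsOpen[constructibleTopology X] Eᶜ) : IsOpen[constructibleTopology Y] (f '' E)ᶜ := by
  have h1 : @IsCompact Y (constructibleTopology Y) (f '' E) :=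
    @IsCompact.image X Y (constructibleTopology X) (constructibleTopology Y) E f
      (@IsClosed.isCompact X (constructibleTopology X) _ compactSpace_cons
        (@IsClosed.mk X (constructibleTopology X) E hE)) h
  exact (@IsCompact.isClosed Y (constructibleTopology Y) ConsTop.t2Space_cons _ h1).isOpen_compl

/-- Compact opens of a spectral space form a subbasis. -/
theorem eq_generateFrom [PrespectralSpace X] :
    ‹TopologicalSpace X› = generateFrom {U : Set X | IsOpen U ∧ IsCompact U} :=
  PrespectralSpace.isTopologicalBasis.eq_generateFrom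

/-- A constructibly closed subset of a spectral space is spectral. -/
theorem subset_spectral [SpectralSpace X] {E : Set X} (hE : IsOpen[constructibleTopology X] Eᶜ) :
    SpectralSpace E ∧ constructibleTopology E = (constructibleTopology X).induced Subtype.val := by
  refine criterion ((constructibleTopology X).induced Subtype.val) (t := instTopologicalSpaceSubtype)
    (Set.preimage Subtype.val '' {U : Set X | IsOpen U ∧ IsCompact U}) ?_ ?_ ?_ ?_
  · rw [← induced_generateFrom_eq, ← eq_generateFrom]; rfl
  · exact (@isCompact_iff_compactSpace X (constructibleTopology X) E).1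
      (@IsClosed.isCompact X (constructibleTopology X) _ compactSpace_cons
      (@IsClosed.mk X (constructibleTopology X) E hE))
  · rintro _ ⟨U, ⟨hU, hUc⟩, rfl⟩; exact ⟨U, (isClopen_of_isCompact hU hUc).1, rfl⟩
  · rintro _ ⟨U, ⟨hU, hUc⟩, rfl⟩; exact ⟨Uᶜ, (isClopen_of_isCompact hU hUc).2, rfl⟩

/-- Products of spectral spaces are spectral. -/
theorem pi_spectral {ι : Type v} (Z : ι → Type u) [∀ i, TopologicalSpace (Z i)]
    [∀ i, SpectralSpace (Z i)] :
    SpectralSpace (∀ i, Z i) ∧
      constructibleTopology (∀ i, Z i) = ⨅ i, (constructibleTopology (Z i)).induced (fun x => x i) := by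
  refine criterion _ (t := Pi.topologicalSpace)
    (⋃ i, Set.preimage (fun x : ∀ i, Z i => x i) '' {U : Set (Z i) | IsOpen U ∧ IsCompact U}) ?_
    (@Pi.compactSpace ι Z (fun i => constructibleTopology (Z i)) fun i => compactSpace_cons) ?_ ?_
  · rw [generateFrom_iUnion]
    refine iInf_congr fun i => ?_
    rw [← induced_generateFrom_eq, ← eq_generateFrom]
  · intro s hs
    obtain ⟨i, U, ⟨hU, hUc⟩, rfl⟩ := Set.mem_iUnion.1 hs
    exact @IsOpen.preimage _ _ (@Pi.topologicalSpace ι Z fun i => constructibleTopology (Z i))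
      (constructibleTopology (Z i)) _
      (@continuous_apply ι Z (fun i => constructibleTopology (Z i)) i) _ (isClopen_of_isCompact hU hUc).1
  · intro s hs
    obtain ⟨i, U, ⟨hU, hUc⟩, rfl⟩ := Set.mem_iUnion.1 hs
    exact @IsOpen.preimage _ _ (@Pi.topologicalSpace ι Z fun i => constructibleTopology (Z i))
      (constructibleTopology (Z i)) _
      (@continuous_apply ι Z (fun i => constructibleTopology (Z i)) i) _ (isClopen_of_isCompact hU hUc).2

theorem prod_spectral (A : Type u) (B : Type v) [TopologicalSpace A] [TopologicalSpace B]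
    [SpectralSpace A] [SpectralSpace B] : SpectralSpace (A × B) := by
  refine (criterion (@instTopologicalSpaceProd A B (constructibleTopology A) (constructibleTopology B))
    (t := instTopologicalSpaceProd)
    (Set.preimage Prod.fst '' {U : Set A | IsOpen U ∧ IsCompact U} ∪
      Set.preimage Prod.snd '' {U : Set B | IsOpen U ∧ IsCompact U}) ?_
    (@instCompactSpaceProd A B (constructibleTopology A) (constructibleTopology B)
      compactSpace_cons compactSpace_cons) ?_ ?_).1
  · rw [generateFrom_union, ← induced_generateFrom_eq, ← induced_generateFrom_eq,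
      ← eq_generateFrom, ← eq_generateFrom]
    rfl
  all_goals
    rintro s (⟨U, ⟨hU, hUc⟩, rfl⟩ | ⟨U, ⟨hU, hUc⟩, rfl⟩)
  · exact @IsOpen.preimage _ _ (@instTopologicalSpaceProd A B (constructibleTopology A) (constructibleTopology B)) (constructibleTopology A) _
      (@continuous_fst A B (constructibleTopology A) (constructibleTopology B)) _ (isClopen_of_isCompact hU hUc).1
  · exact @IsOpen.preimage _ _ (@instTopologicalSpaceProd A B (constructibleTopology A) (constructibleTopology B)) (constructibleTopology B) _
      (@continuous_snd A B (constructibleTopology A) (constructibleTopology B)) _ (isClopen_of_isCompact hU hUc).1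
  · exact @IsOpen.preimage _ _ (@instTopologicalSpaceProd A B (constructibleTopology A) (constructibleTopology B)) (constructibleTopology A) _
      (@continuous_fst A B (constructibleTopology A) (constructibleTopology B)) _ (isClopen_of_isCompact hU hUc).2
  · exact @IsOpen.preimage _ _ (@instTopologicalSpaceProd A B (constructibleTopology A) (constructibleTopology B)) (constructibleTopology B) _
      (@continuous_snd A B (constructibleTopology A) (constructibleTopology B)) _ (isClopen_of_isCompact hU hUc).2

/-- Finite T0 spaces are spectral. -/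
theorem finite_spectral [Finite X] [T0Space X] : SpectralSpace X :=
  (criterion ⊥ {s : Set X | IsOpen s} (generateFrom_setOfPred_isOpen _).symm
    (@Finite.compactSpace X ⊥ _) (fun _ _ => trivial) fun _ _ => trivial).1

/-- The family of compact open neighbourhoods meets a constructibly closed set in a point. -/
theorem exists_forall_mem [SpectralSpace X] {ι : Type v} (K : ι → Set X) {E : Set X}
    (hE : IsOpen[constructibleTopology X] Eᶜ) (hK : ∀ i, IsOpen[constructibleTopology X] (K i)ᶜ)
    (h : ∀ u : Finset ι, (E ∩ ⋂ i ∈ u, K i).Nonempty) : (E ∩ ⋂ i, K i).Nonempty := by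
  by_contra hemp
  obtain ⟨u, hu⟩ := @IsCompact.elim_finite_subfamily_closed X (constructibleTopology X) _ _
    (@IsClosed.isCompact X (constructibleTopology X) _ compactSpace_cons
      (@IsClosed.mk X (constructibleTopology X) E hE)) K
    (fun i => @IsClosed.mk X (constructibleTopology X) _ (hK i)) (Set.not_nonempty_iff_eq_empty.1 hemp)
  exact (h u).ne_empty hu

theorem exists_specializes [SpectralSpace X] {E : Set X} (hE : IsOpen[constructibleTopology X] Eᶜ)
    {x : X} (hx : x ∈ closure E) : ∃ e ∈ E, e ⤳ x := by
  obtain ⟨e, he, hall⟩ := exists_forall_mem (fun U : {U : Set X // (IsOpen U ∧ IsCompact U) ∧ x ∈ U} => U.1)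
    hE (fun U => (isClopen_of_isCompact U.2.1.1 U.2.1.2).2) fun u => by
      obtain ⟨y, hy, hyE⟩ := mem_closure_iff.1 hx _ (u.finite_toSet.isOpen_biInter fun U _ => U.2.1.1)
        (Set.mem_iInter₂.2 fun U _ => U.2.2)
      exact ⟨y, hyE, hy⟩
  refine ⟨e, he, specializes_iff_forall_open.2 fun s hs hxs => ?_⟩
  obtain ⟨U, hU, hxU, hUs⟩ := PrespectralSpace.isTopologicalBasis.exists_subset_of_mem_open hxs hs
  exact hUs (Set.mem_iInter.1 hall ⟨U, hU, hxU⟩)

theorem isClosed_of_stable [SpectralSpace X] {E : Set X} (hE : IsOpen[constructibleTopology X] Eᶜ)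
    (hs : StableUnderSpecialization E) : IsClosed E := by
  refine isClosed_of_closure_subset fun x hx => ?_
  obtain ⟨e, he, hex⟩ := exists_specializes hE hx
  exact hs hex he

theorem isOpen_of_stable [SpectralSpace X] {E : Set X} (hE : IsOpen[constructibleTopology X] E)
    (hs : StableUnderGeneralization E) : IsOpen E :=
  isClosed_compl_iff.1 (isClosed_of_stable (by rwa [compl_compl]) hs.compl)

theorem isConstructible_of_clopen [SpectralSpace X] {E : Set X}
    (hE : IsOpen[constructibleTopology X] E) (hE' : IsOpen[constructibleTopology X] Eᶜ) :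
    IsConstructible E := by
  simpa using ConsTop.isConstructible_inter_of_isClopen hE hE' isOpen_univ isCompact_univ

/-- If a set is compact, the points specializing into it are an intersection of compact opens. -/
theorem generalizations_eq_sInter [SpectralSpace X] {E : Set X} (hE : IsCompact E) :
    {x | ∃ e ∈ E, x ⤳ e} = ⋂₀ {U : Set X | IsOpen U ∧ IsCompact U ∧ E ⊆ U} := by
  ext x
  refine ⟨fun ⟨e, he, hxe⟩ U ⟨hU, _, hEU⟩ => hxe.mem_open hU (hEU he), fun hx => ?_⟩
  by_contra hne
  simp only [Set.mem_setOf_eq, not_exists, not_and] at hne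
  have : ∀ e ∈ E, ∃ U : Set X, (IsOpen U ∧ IsCompact U) ∧ e ∈ U ∧ x ∉ U := fun e he => by
    have := hne e he
    rw [specializes_iff_forall_open] at this
    push Not at this
    obtain ⟨s, hs, hes, hxs⟩ := this
    obtain ⟨U, hU, heU, hUs⟩ := PrespectralSpace.isTopologicalBasis.exists_subset_of_mem_open hes hs
    exact ⟨U, hU, heU, fun h => hxs (hUs h)⟩
  choose U hU heU hxU using this
  obtain ⟨t, ht⟩ := hE.elim_finite_subcover (fun e : E => U e e.2) (fun e => (hU e e.2).1)
    fun e he => Set.mem_iUnion.2 ⟨⟨e, he⟩, heU e he⟩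
  have hxt := hx _ ⟨isOpen_biUnion fun e (_ : e ∈ t) => (hU e e.2).1,
    t.finite_toSet.isCompact_biUnion fun e _ => (hU e e.2).2, ht⟩
  obtain ⟨e, _, he⟩ := Set.mem_iUnion₂.1 hxt
  exact hxU e e.2 he

end Groth.Agent.SpecSpLib
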