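/-
Limits of spectral spaces along spectral maps.
-/
import Groth.Agent.SpecSpLib.Basic
import Mathlib

set_option autoImplicit false
set_option linter.style.haveILetI false

universe u

open Topology TopologicalSpace CategoryTheory CategoryTheory.Limits

namespace Groth.Agent.SpecSpLib

variable {J : Type u} [SmallCategory J] (F : J ⥤ TopCat.{u})

/-- The compatible families. -/
def sect : Set (∀ j, F.obj j) := {x | ∀ ⦃i j : J⦄ (a : i ⟶ j), F.map a (x i) = x j}

variable {F}

theorem exists_homeo {c : Cone F} (hc : IsLimit c) :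
    ∃ e : c.pt ≃ₜ sect F, ∀ x j, c.π.app j x = (e x).1 j := by
  let e := TopCat.homeoOfIso (hc.conePointUniqueUpToIso (TopCat.limitConeIsLimit F))
  refine ⟨e, fun x j => ?_⟩
  exact (ConcreteCategory.congr_hom
    (IsLimit.conePointUniqueUpToIso_hom_comp hc (TopCat.limitConeIsLimit F) j) x).symm

variable (hF : ∀ j, SpectralSpace (F.obj j))
  (hFm : ∀ {i j : J} (a : i ⟶ j), IsSpectralMap (F.map a : F.obj i → F.obj j))

include hF hFm in
theorem continuous_map {i j : J} (a : i ⟶ j) :
    @Continuous (F.obj i) (F.obj j) (constructibleTopology _) (constructibleTopology _) (F.map a) :=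
  continuous_cons_of_isSpectralMap (hFm a)

include hF hFm in
theorem sect_closed : IsOpen[constructibleTopology (∀ j, F.obj j)] (sect F)ᶜ := by
  haveI := hF
  rw [(pi_spectral (fun j => (F.obj j : Type u))).2]
  have : (sect F) = ⋂ (p : Σ i j : J, (i ⟶ j)), {x | F.map p.2.2 (x p.1) = x p.2.1} := by
    ext x
    simp only [sect, Set.mem_iInter]
    exact ⟨fun h p => h p.2.2, fun h i j a => h ⟨i, j, a⟩⟩
  rw [this]
  let t := @Pi.topologicalSpace J (fun j => (F.obj j : Type u)) fun j => constructibleTopology _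
  refine (@isClosed_iInter _ _ t _ fun p => ?_).isOpen_compl
  exact @isClosed_eq (F.obj p.2.1) _ (constructibleTopology _) t ConsTop.t2Space_cons _ _
    (@Continuous.comp _ _ _ t (constructibleTopology _) (constructibleTopology _) _ _
      (continuous_map hF hFm p.2.2) (@continuous_apply J _ (fun j => constructibleTopology _) p.1))
    (@continuous_apply J _ (fun j => constructibleTopology _) p.2.1)

include hF hFm in
/-- The limit is spectral; its constructible topology is induced by those of the terms. -/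
theorem limit_spectral {c : Cone F} (hc : IsLimit c) :
    SpectralSpace c.pt ∧ constructibleTopology c.pt =
      ⨅ j, (constructibleTopology (F.obj j)).induced (c.π.app j : c.pt → F.obj j) := by
  haveI := hF
  obtain ⟨e, he⟩ := exists_homeo hc
  haveI := (pi_spectral (fun j => (F.obj j : Type u))).1
  obtain ⟨hs, hst⟩ := subset_spectral (sect_closed hF hFm)
  have hT : (constructibleTopology (sect F)).induced e =
      ⨅ j, (constructibleTopology (F.obj j)).induced (c.π.app j : c.pt → F.obj j) := by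
    rw [hst, (pi_spectral (fun j => (F.obj j : Type u))).2, induced_iInf, induced_iInf]
    refine iInf_congr fun j => ?_
    rw [induced_compose, induced_compose]
    congr 1
    funext x
    exact (he x j).symm
  haveI : T0Space c.pt := e.isEmbedding.t0Space
  have := criterion ((constructibleTopology (sect F)).induced e) (t := inferInstance)
    (Set.preimage e '' {U : Set (sect F) | IsOpen U ∧ IsCompact U}) ?_ ?_ ?_ ?_
  · exact ⟨this.1, this.2.trans hT⟩
  · rw [← induced_generateFrom_eq, ← eq_generateFrom]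
    exact e.isInducing.eq_induced
  · haveI := hs
    exact @CompactSpace.mk _ ((constructibleTopology (sect F)).induced e)
      ((@Topology.IsInducing.isCompact_iff c.pt (sect F) ((constructibleTopology (sect F)).induced e)
        (constructibleTopology (sect F)) _ e
        (@Topology.IsInducing.mk _ _ ((constructibleTopology (sect F)).induced e) (constructibleTopology (sect F)) e rfl)).2
        (by rw [Set.image_univ, e.surjective.range_eq]
            exact (@compactSpace_cons (sect F) _ hs).isCompact_univ))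
  · haveI := hs
    rintro _ ⟨U, ⟨hU, hUc⟩, rfl⟩; exact ⟨U, (isClopen_of_isCompact hU hUc).1, rfl⟩
  · haveI := hs
    rintro _ ⟨U, ⟨hU, hUc⟩, rfl⟩; exact ⟨Uᶜ, (isClopen_of_isCompact hU hUc).2, rfl⟩

include hF hFm in
theorem proj_spectral {c : Cone F} (hc : IsLimit c) (j : J) :
    IsSpectralMap (c.π.app j : c.pt → F.obj j) := by
  haveI := (limit_spectral hF hFm hc).1
  haveI := hF j
  refine isSpectralMap_of_continuous_cons (X := c.pt) (Y := F.obj j) (f := c.π.app j) (c.π.app j).hom.continuous ?_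
  rw [(limit_spectral hF hFm hc).2]
  exact continuous_iInf_dom (i := j) continuous_induced_dom

include hF hFm in
theorem proj_preimage_closed {c : Cone F} (hc : IsLimit c) {j : J} {Z : Set (F.obj j)}
    (hZ : IsOpen[constructibleTopology (F.obj j)] Zᶜ) :
    IsOpen[constructibleTopology c.pt] (c.π.app j ⁻¹' Z)ᶜ :=
  @IsOpen.preimage _ _ (constructibleTopology _) (constructibleTopology _) _
    (continuous_cons_of_isSpectralMap (proj_spectral hF hFm hc j)) _ hZ

variable [IsCofiltered J]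

include hF hFm in
theorem exists_point {c : Cone F} (hc : IsLimit c) (Z : ∀ j, Set (F.obj j))
    (hne : ∀ j, (Z j).Nonempty) (hcl : ∀ j, IsOpen[constructibleTopology (F.obj j)] (Z j)ᶜ)
    (hmap : ∀ {i j : J} (a : i ⟶ j), Set.MapsTo (F.map a) (Z i) (Z j)) :
    ∃ x : c.pt, ∀ j, c.π.app j x ∈ Z j := by
  classical
  obtain ⟨e, he⟩ := exists_homeo hc
  haveI := hF
  have hsurj : Function.Surjective e := e.surjective
  have hey : ∀ (y : c.pt) (x : sect F), e y = x → ∀ j, c.π.app j y = x.1 j := fun y x h j => h ▸ he y j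
  let t := @Pi.topologicalSpace J (fun j => (F.obj j : Type u)) fun j => constructibleTopology _
  have hP : @CompactSpace _ t :=
    @Pi.compactSpace J _ (fun j => constructibleTopology _) fun j => compactSpace_cons
  let K : J ⊕ (Σ i j : J, (i ⟶ j)) → Set (∀ j, F.obj j) := fun s => Sum.elim
    (fun j => (fun x => x j) ⁻¹' Z j) (fun p => {x | F.map p.2.2 (x p.1) = x p.2.1}) s
  have hK : ∀ s, @IsClosed _ t (K s) := by
    rintro (j | p)
    · exact @IsClosed.preimage _ _ t (constructibleTopology _) _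
        (@continuous_apply J _ (fun j => constructibleTopology _) j) _
        (@IsClosed.mk _ (constructibleTopology _) _ (hcl j))
    · exact @isClosed_eq (F.obj p.2.1) _ (constructibleTopology _) t ConsTop.t2Space_cons _ _
        (@Continuous.comp _ _ _ t (constructibleTopology _) (constructibleTopology _) _ _
          (continuous_map hF hFm p.2.2) (@continuous_apply J _ (fun j => constructibleTopology _) p.1))
        (@continuous_apply J _ (fun j => constructibleTopology _) p.2.1)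
  have hfip : ∀ u : Finset (J ⊕ (Σ i j : J, (i ⟶ j))), (⋂ s ∈ u, K s).Nonempty := by
    intro u
    let H : Finset (Σ' (X Y : J) (_ : X ∈ u.toLeft ∪ (u.toRight.image fun p => p.1) ∪ (u.toRight.image fun p => p.2.1))
        (_ : Y ∈ u.toLeft ∪ (u.toRight.image fun p => p.1) ∪ (u.toRight.image fun p => p.2.1)), X ⟶ Y) :=
      u.toRight.attach.image fun p => ⟨p.1.1, p.1.2.1,
        Finset.mem_union_left _ (Finset.mem_union_right _ (Finset.mem_image.2 ⟨p.1, p.2, rfl⟩)),
        Finset.mem_union_right _ (Finset.mem_image.2 ⟨p.1, p.2, rfl⟩), p.1.2.2⟩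
    obtain ⟨k, T, hT⟩ := IsCofiltered.inf_exists _ H
    obtain ⟨z, hz⟩ := hne k
    refine ⟨fun j => if h : j ∈ _ then F.map (T h) z else (hne j).some, Set.mem_iInter₂.2 fun s hs => ?_⟩
    rcases s with j | ⟨i, j, a⟩
    · simp only [K, Sum.elim_inl, Set.mem_preimage]
      split_ifs with h
      · exact hmap _ hz
      · exact (hne j).some_mem
    · have hp : (⟨i, j, a⟩ : Σ i j : J, (i ⟶ j)) ∈ u.toRight := Finset.mem_toRight.2 hs
      have hi : i ∈ u.toLeft ∪ (u.toRight.image fun p => p.1) ∪ (u.toRight.image fun p => p.2.1) :=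
        Finset.mem_union_left _ (Finset.mem_union_right _
          (Finset.mem_image.2 ⟨(⟨i, j, a⟩ : Σ i j : J, (i ⟶ j)), hp, rfl⟩))
      have hj : j ∈ u.toLeft ∪ (u.toRight.image fun p => p.1) ∪ (u.toRight.image fun p => p.2.1) :=
        Finset.mem_union_right _ (Finset.mem_image.2 ⟨(⟨i, j, a⟩ : Σ i j : J, (i ⟶ j)), hp, rfl⟩)
      change F.map a _ = _
      dsimp only
      rw [dif_pos hi, dif_pos hj, ← ConcreteCategory.comp_apply, ← F.map_comp,
        hT hi hj (Finset.mem_image.2 ⟨⟨_, hp⟩, Finset.mem_attach _ _, rfl⟩)]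
  obtain ⟨x, hx⟩ : (⋂ s, K s).Nonempty := by
    by_contra hemp
    obtain ⟨u, hu⟩ := @IsCompact.elim_finite_subfamily_closed _ t _ _ (@isCompact_univ _ t hP) K hK
      (by rw [Set.univ_inter]; exact Set.not_nonempty_iff_eq_empty.1 hemp)
    rw [Set.univ_inter] at hu
    exact (hfip u).ne_empty hu
  rw [Set.mem_iInter] at hx
  obtain ⟨y, hy⟩ := hsurj ⟨x, fun i j a => hx (Sum.inr ⟨i, j, a⟩)⟩
  exact ⟨y, fun j => by rw [hey y _ hy j]; exact hx (Sum.inl j)⟩

set_option maxHeartbeats 800000 in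
include hF hFm in
theorem exists_preimage_empty {c : Cone F} (hc : IsLimit c) {i : J} {Z : Set (F.obj i)}
    (hZ : IsOpen[constructibleTopology (F.obj i)] Zᶜ) (h : c.π.app i ⁻¹' Z = ∅) :
    ∃ (j : J) (a : j ⟶ i), F.map a ⁻¹' Z = ∅ := by
  by_contra hne
  push Not at hne
  haveI := hF
  let W : ∀ j, Set (F.obj j) := fun j =>
    ⋂ p : Σ k : J, (k ⟶ j) × (k ⟶ i), F.map p.2.1 '' (F.map p.2.2 ⁻¹' Z)
  have hcl' : ∀ {k j : J} (a : k ⟶ j) (b : k ⟶ i),
      IsOpen[constructibleTopology (F.obj j)] (F.map a '' (F.map b ⁻¹' Z))ᶜ := fun a b =>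
    isClosed_image_cons (continuous_map hF hFm a)
      (@IsOpen.preimage _ _ (constructibleTopology _) (constructibleTopology _) _
        (continuous_map hF hFm b) _ hZ)
  have hWc : ∀ j, @IsClosed (F.obj j) (constructibleTopology (F.obj j)) (W j) := fun j =>
    @isClosed_iInter (F.obj j) (Σ k : J, (k ⟶ j) × (k ⟶ i)) (constructibleTopology (F.obj j))
      (fun p => F.map p.2.1 '' (F.map p.2.2 ⁻¹' Z)) fun p =>
      @IsClosed.mk (F.obj j) (constructibleTopology (F.obj j)) _ (hcl' p.2.1 p.2.2)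
  have hsq : ∀ {j : J} (p q : Σ k : J, (k ⟶ j) × (k ⟶ i)), ∃ r : Σ k : J, (k ⟶ j) × (k ⟶ i),
      F.map r.2.1 '' (F.map r.2.2 ⁻¹' Z) ⊆ F.map p.2.1 '' (F.map p.2.2 ⁻¹' Z) ∧
      F.map r.2.1 '' (F.map r.2.2 ⁻¹' Z) ⊆ F.map q.2.1 '' (F.map q.2.2 ⁻¹' Z) := by
    intro j p q
    obtain ⟨l, g, g', hg⟩ := IsCofiltered.cospan p.2.1 q.2.1
    let m := IsCofiltered.eq (g ≫ p.2.2) (g' ≫ q.2.2)
    let n := IsCofiltered.eqHom (g ≫ p.2.2) (g' ≫ q.2.2)
    have hn : n ≫ g ≫ p.2.2 = n ≫ g' ≫ q.2.2 := IsCofiltered.eq_condition _ _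
    refine ⟨⟨m, n ≫ g ≫ p.2.1, n ≫ g ≫ p.2.2⟩, ?_, ?_⟩
    · rintro _ ⟨w, hw, rfl⟩
      refine ⟨F.map (n ≫ g) w, ?_, ?_⟩
      · change F.map p.2.2 (F.map (n ≫ g) w) ∈ Z
        rw [← ConcreteCategory.comp_apply, ← F.map_comp, Category.assoc]
        exact hw
      · rw [← ConcreteCategory.comp_apply, ← F.map_comp, Category.assoc]
    · rintro _ ⟨w, hw, rfl⟩
      refine ⟨F.map (n ≫ g') w, ?_, ?_⟩
      · change F.map q.2.2 (F.map (n ≫ g') w) ∈ Z
        rw [← ConcreteCategory.comp_apply, ← F.map_comp, Category.assoc, ← hn]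
        exact hw
      · rw [← ConcreteCategory.comp_apply, ← F.map_comp, Category.assoc, ← hg]
  have hWne : ∀ j, (W j).Nonempty := by
    intro j
    haveI : Nonempty (Σ k : J, (k ⟶ j) × (k ⟶ i)) :=
      ⟨⟨IsCofiltered.min j i, IsCofiltered.minToLeft j i, IsCofiltered.minToRight j i⟩⟩
    refine @IsCompact.nonempty_iInter_of_directed_nonempty_isCompact_isClosed _ (constructibleTopology _) _ _
      (fun p : Σ k : J, (k ⟶ j) × (k ⟶ i) => F.map p.2.1 '' (F.map p.2.2 ⁻¹' Z)) hsq
      (fun p => (hne p.1 p.2.2).image _)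
      (fun p => @IsClosed.isCompact _ (constructibleTopology _) _ compactSpace_cons
        (@IsClosed.mk _ (constructibleTopology _) _ (hcl' p.2.1 p.2.2)))
      (fun p => @IsClosed.mk _ (constructibleTopology _) _ (hcl' p.2.1 p.2.2))
  obtain ⟨x, hx⟩ := exists_point hF hFm hc W hWne (fun j => (hWc j).isOpen_compl) fun {j j'} a w hw => by
    refine Set.mem_iInter.2 fun q => ?_
    obtain ⟨l, g, g', hg⟩ := IsCofiltered.cospan a q.2.1
    obtain ⟨v, hv, hv'⟩ := Set.mem_iInter.1 hw ⟨l, g, g' ≫ q.2.2⟩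
    refine ⟨F.map g' v, ?_, ?_⟩
    · change F.map q.2.2 (F.map g' v) ∈ Z
      rw [← ConcreteCategory.comp_apply, ← F.map_comp]
      exact hv
    · rw [← ConcreteCategory.comp_apply, ← F.map_comp, ← hg, F.map_comp, ConcreteCategory.comp_apply]
      exact congrArg _ hv'
  obtain ⟨w, hw, hw'⟩ := Set.mem_iInter.1 (hx i) ⟨i, 𝟙 i, 𝟙 i⟩
  have : x ∈ c.π.app i ⁻¹' Z := by
    change c.π.app i x ∈ Z
    rw [← hw']
    simpa using hw
  rw [h] at this
  exact this

include hF hFm in
/-- Opens for the constructible topology of the limit come from the stages. -/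
theorem exists_stage_of_basis {c : Cone F} (hc : IsLimit c) (B : ∀ j, Set (Set (F.obj j)))
    (hU : ∀ j, ∀ U ∈ B j, ∀ i (a : i ⟶ j), F.map a ⁻¹' U ∈ B i)
    (hun : ∀ j, ∀ U ∈ B j, ∀ V ∈ B j, U ∪ V ∈ B j) (hemp : ∀ j, ∅ ∈ B j)
    {E : Set c.pt} (hE : IsOpen[constructibleTopology c.pt] Eᶜ)
    (hcov : ∀ x ∈ E, ∃ (j : J) (U : Set (F.obj j)), U ∈ B j ∧ c.π.app j x ∈ U ∧ c.π.app j ⁻¹' U ⊆ E)
    (hBo : ∀ j, ∀ U ∈ B j, IsOpen[constructibleTopology (F.obj j)] U) :
    ∃ (i : J) (U : Set (F.obj i)), U ∈ B i ∧ c.π.app i ⁻¹' U = E := by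
  classical
  haveI := (limit_spectral hF hFm hc).1
  choose jx Ux hUx hxU hUE using hcov
  obtain ⟨t, ht⟩ := @IsCompact.elim_finite_subcover c.pt (constructibleTopology c.pt) _ _
    (@IsClosed.isCompact _ (constructibleTopology c.pt) _ compactSpace_cons
      (@IsClosed.mk _ (constructibleTopology c.pt) E hE))
    (fun x : E => c.π.app (jx x x.2) ⁻¹' Ux x x.2)
    (fun x => @IsOpen.preimage _ _ (constructibleTopology _) (constructibleTopology _) _
      (continuous_cons_of_isSpectralMap (proj_spectral hF hFm hc _)) _ (hBo _ _ (hUx x x.2)))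
    (fun x hx => Set.mem_iUnion.2 ⟨⟨x, hx⟩, hxU x hx⟩)
  suffices key : ∀ s : Finset E, ∃ (i : J) (U : Set (F.obj i)), U ∈ B i ∧
      c.π.app i ⁻¹' U = ⋃ x ∈ s, c.π.app (jx x.1 x.2) ⁻¹' Ux x.1 x.2 by
    obtain ⟨i, U, hUB, he⟩ := key t
    exact ⟨i, U, hUB, he.trans ((Set.iUnion₂_subset fun x _ => hUE x.1 x.2).antisymm ht)⟩
  intro s
  induction s using Finset.induction_on with
  | empty =>
    exact ⟨((IsCofiltered.nonempty (C := J))).some, ∅, hemp _, by simp⟩
  | insert x s _ ih =>
    obtain ⟨i, U, hUB, he⟩ := ih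
    let k := IsCofiltered.min (jx x.1 x.2) i
    refine ⟨k, F.map (IsCofiltered.minToLeft _ i) ⁻¹' Ux x.1 x.2 ∪
      F.map (IsCofiltered.minToRight (jx x.1 x.2) i) ⁻¹' U,
      hun _ _ (hU _ _ (hUx x.1 x.2) _ _) _ (hU _ _ hUB _ _), ?_⟩
    rw [Finset.set_biUnion_insert, ← he, Set.preimage_union]
    congr 1 <;>
    · ext y
      simp only [Set.mem_preimage]
      rw [← ConcreteCategory.comp_apply, c.w]

end Groth.Agent.SpecSpLib
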