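/-
Descent of open, constructible and compact open sets along limits of spectral spaces.
-/
import Groth.Agent.SpecSpLib.Limit
import Mathlib

set_option autoImplicit false
set_option linter.style.haveILetI false

universe u

open Topology TopologicalSpace CategoryTheory CategoryTheory.Limits

namespace Groth.Agent.SpecSpLib

variable {J : Type u} [SmallCategory J] [IsCofiltered J] {F : J ⥤ TopCat.{u}} {c : Cone F}

omit [IsCofiltered J] in
theorem preimage_map {i j : J} (a : i ⟶ j) (U : Set (F.obj j)) :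
    c.π.app i ⁻¹' (F.map a ⁻¹' U) = c.π.app j ⁻¹' U := by
  ext x
  simp only [Set.mem_preimage]
  rw [← ConcreteCategory.comp_apply, c.w]

/-- An open set for a limit topology contains around each point the preimage of a stage set. -/
theorem exists_stage_mem (t : TopologicalSpace c.pt) (S B : ∀ j, Set (Set (F.obj j)))
    (ht : t = ⨅ j, (generateFrom (S j)).induced (c.π.app j : c.pt → F.obj j))
    (hSB : ∀ j, S j ⊆ B j) (huniv : ∀ j, Set.univ ∈ B j)
    (hinter : ∀ j, ∀ U ∈ B j, ∀ V ∈ B j, U ∩ V ∈ B j)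
    (hpre : ∀ j, ∀ U ∈ B j, ∀ i (a : i ⟶ j), F.map a ⁻¹' U ∈ B i)
    {s : Set c.pt} (hs : IsOpen[t] s) {x : c.pt} (hx : x ∈ s) :
    ∃ (j : J) (U : Set (F.obj j)), U ∈ B j ∧ c.π.app j x ∈ U ∧ c.π.app j ⁻¹' U ⊆ s := by
  simp only [induced_generateFrom_eq, ← generateFrom_iUnion] at ht
  subst ht
  induction hs with
  | basic s hs =>
    obtain ⟨j, U, hU, rfl⟩ := Set.mem_iUnion.1 hs
    exact ⟨j, U, hSB j hU, hx, subset_rfl⟩
  | univ =>
    exact ⟨(IsCofiltered.nonempty (C := J)).some, Set.univ, huniv _, trivial, Set.subset_univ _⟩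
  | inter s t _ _ ihs iht =>
    obtain ⟨i, U, hU, hxU, hUs⟩ := ihs hx.1
    obtain ⟨j, V, hV, hxV, hVt⟩ := iht hx.2
    refine ⟨IsCofiltered.min i j, F.map (IsCofiltered.minToLeft i j) ⁻¹' U ∩
      F.map (IsCofiltered.minToRight i j) ⁻¹' V, hinter _ _ (hpre _ _ hU _ _) _ (hpre _ _ hV _ _), ?_, ?_⟩
    · have h1 : x ∈ c.π.app (IsCofiltered.min i j) ⁻¹' (F.map (IsCofiltered.minToLeft i j) ⁻¹' U) := by
        rw [preimage_map]; exact hxU
      have h2 : x ∈ c.π.app (IsCofiltered.min i j) ⁻¹' (F.map (IsCofiltered.minToRight i j) ⁻¹' V) := by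
        rw [preimage_map]; exact hxV
      exact ⟨h1, h2⟩
    · rw [Set.preimage_inter, preimage_map, preimage_map]
      exact Set.inter_subset_inter hUs hVt
  | sUnion C _ ih =>
    obtain ⟨s, hs, hxs⟩ := hx
    obtain ⟨j, U, hU, hxU, hUs⟩ := ih s hs hxs
    exact ⟨j, U, hU, hxU, hUs.trans (Set.subset_sUnion_of_mem hs)⟩

variable (hF : ∀ j, SpectralSpace (F.obj j))
  (hFm : ∀ {i j : J} (a : i ⟶ j), IsSpectralMap (F.map a : F.obj i → F.obj j))

include hF hFm in
theorem exists_stage_clopen (hc : IsLimit c) {E : Set c.pt}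
    (hE : IsOpen[constructibleTopology c.pt] E) (hE' : IsOpen[constructibleTopology c.pt] Eᶜ) :
    ∃ (i : J) (U : Set (F.obj i)), (IsOpen[constructibleTopology (F.obj i)] U ∧
      IsOpen[constructibleTopology (F.obj i)] Uᶜ) ∧ c.π.app i ⁻¹' U = E := by
  haveI := hF
  have hpre : ∀ j, ∀ U ∈ {U : Set (F.obj j) | IsOpen[constructibleTopology (F.obj j)] U ∧
      IsOpen[constructibleTopology (F.obj j)] Uᶜ}, ∀ i (a : i ⟶ j), F.map a ⁻¹' U ∈
      {U : Set (F.obj i) | IsOpen[constructibleTopology (F.obj i)] U ∧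
        IsOpen[constructibleTopology (F.obj i)] Uᶜ} := fun j U hU i a =>
    ⟨@IsOpen.preimage _ _ (constructibleTopology _) (constructibleTopology _) _ (continuous_map hF hFm a) _ hU.1,
      @IsOpen.preimage _ _ (constructibleTopology _) (constructibleTopology _) _ (continuous_map hF hFm a) _ hU.2⟩
  refine exists_stage_of_basis hF hFm hc (fun j => {U : Set (F.obj j) |
      IsOpen[constructibleTopology (F.obj j)] U ∧ IsOpen[constructibleTopology (F.obj j)] Uᶜ}) hpre
    (fun j U hU V hV => ?_) (fun j => ?_) hE' (fun x hx => ?_) (fun j U hU => hU.1)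
  · refine ⟨@IsOpen.union _ _ _ (constructibleTopology _) hU.1 hV.1, ?_⟩
    rw [Set.compl_union]
    exact @IsOpen.inter _ (constructibleTopology _) _ _ hU.2 hV.2
  · refine ⟨@isOpen_empty _ (constructibleTopology _), ?_⟩
    rw [Set.compl_empty]
    exact @isOpen_univ _ (constructibleTopology _)
  refine exists_stage_mem (constructibleTopology c.pt) (fun j => constructibleTopologySubbasis (F.obj j)) _
    (limit_spectral hF hFm hc).2 ?_ ?_ ?_ hpre hE hx
  · intro j s hs
    rcases hs with ⟨hso, hsc⟩ | ⟨hsc, hsc'⟩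
    · exact isClopen_of_isCompact hso hsc
    · exact ⟨hsc'.isOpen_constructibleTopology_of_isClosed hsc,
        hsc'.isOpen_constructibleTopology_of_isOpen hsc.isOpen_compl⟩
  · intro j
    refine ⟨@isOpen_univ _ (constructibleTopology _), ?_⟩
    rw [Set.compl_univ]
    exact @isOpen_empty _ (constructibleTopology _)
  · intro j U hU V hV
    refine ⟨@IsOpen.inter _ (constructibleTopology _) _ _ hU.1 hV.1, ?_⟩
    rw [Set.compl_inter]
    exact @IsOpen.union _ _ _ (constructibleTopology _) hU.2 hV.2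

include hF hFm in
theorem exists_stage_compactOpen (hc : IsLimit c) {E : Set c.pt} (hE : IsOpen E)
    (hE' : IsOpen[constructibleTopology c.pt] Eᶜ) :
    ∃ (i : J) (U : Set (F.obj i)), (IsOpen U ∧ IsCompact U) ∧ c.π.app i ⁻¹' U = E := by
  haveI := hF
  have hpre : ∀ j, ∀ U ∈ {U : Set (F.obj j) | IsOpen U ∧ IsCompact U}, ∀ i (a : i ⟶ j),
      F.map a ⁻¹' U ∈ {U : Set (F.obj i) | IsOpen U ∧ IsCompact U} := fun j U hU i a =>
    ⟨hU.1.preimage (F.map a).hom.continuous, (hFm a).isCompact_preimage_of_isOpen hU.1 hU.2⟩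
  refine exists_stage_of_basis hF hFm hc (fun j => {U : Set (F.obj j) | IsOpen U ∧ IsCompact U}) hpre
    (fun j U hU V hV => ⟨hU.1.union hV.1, hU.2.union hV.2⟩) (fun j => ⟨isOpen_empty, isCompact_empty⟩) hE'
    (fun x hx => ?_) (fun j U hU => hU.2.isOpen_constructibleTopology_of_isOpen hU.1)
  refine exists_stage_mem c.pt.str (fun j => {U : Set (F.obj j) | IsOpen U ∧ IsCompact U}) _
    ((TopCat.induced_of_isLimit c hc).trans (iInf_congr fun j => ?_)) (fun j => subset_rfl)
    (fun j => ⟨isOpen_univ, isCompact_univ⟩)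
    (fun j U hU V hV => ⟨hU.1.inter hV.1,
      QuasiSeparatedSpace.inter_isCompact U V hU.1 hU.2 hV.1 hV.2⟩) hpre hE hx
  rw [← eq_generateFrom]

include hF hFm in
theorem exists_stage_eq (hc : IsLimit c) {i : J} {A B : Set (F.obj i)}
    (hA : IsOpen[constructibleTopology (F.obj i)] A ∧ IsOpen[constructibleTopology (F.obj i)] Aᶜ)
    (hB : IsOpen[constructibleTopology (F.obj i)] B ∧ IsOpen[constructibleTopology (F.obj i)] Bᶜ)
    (h : c.π.app i ⁻¹' A ⊆ c.π.app i ⁻¹' B) :
    ∃ (j : J) (a : j ⟶ i), F.map a ⁻¹' A ⊆ F.map a ⁻¹' B := by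
  obtain ⟨j, a, ha⟩ := exists_preimage_empty hF hFm hc (i := i) (Z := A ∩ Bᶜ)
    (by rw [Set.compl_inter, compl_compl]; exact @IsOpen.union _ _ _ (constructibleTopology _) hA.2 hB.1)
    (Set.eq_empty_of_forall_notMem fun x hx => hx.2 (h hx.1))
  exact ⟨j, a, fun z hz => by_contra fun hn => Set.eq_empty_iff_forall_notMem.1 ha z ⟨hz, hn⟩⟩

include hF hFm in
theorem exists_stage_eq' (hc : IsLimit c) {i : J} {A B : Set (F.obj i)}
    (hA : IsOpen[constructibleTopology (F.obj i)] A ∧ IsOpen[constructibleTopology (F.obj i)] Aᶜ)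
    (hB : IsOpen[constructibleTopology (F.obj i)] B ∧ IsOpen[constructibleTopology (F.obj i)] Bᶜ)
    (h : c.π.app i ⁻¹' A = c.π.app i ⁻¹' B) :
    ∃ (j : J) (a : j ⟶ i), F.map a ⁻¹' A = F.map a ⁻¹' B := by
  obtain ⟨j₁, a₁, h₁⟩ := exists_stage_eq hF hFm hc hA hB h.subset
  obtain ⟨j₂, a₂, h₂⟩ := exists_stage_eq hF hFm hc hB hA h.superset
  obtain ⟨k, g₁, g₂, hg⟩ := IsCofiltered.cospan a₁ a₂
  refine ⟨k, g₁ ≫ a₁, Set.Subset.antisymm (fun z hz => ?_) (fun z hz => ?_)⟩
  · simp only [Set.mem_preimage, F.map_comp, ConcreteCategory.comp_apply] at hz ⊢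
    exact h₁ hz
  · rw [hg] at hz ⊢
    simp only [Set.mem_preimage, F.map_comp, ConcreteCategory.comp_apply] at hz ⊢
    exact h₂ hz

end Groth.Agent.SpecSpLib
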